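import Cfsg.Agent.H934.E83.Hom
import Cfsg.Agent.H238.E8.Frame
import Cfsg.Agent.H482.Ore.Fix
import Cfsg.Agent.H990.TC.PDLin
import Cfsg.Agent.S0248
import Cfsg.Agent.S0249

/-!
# The homomorphisms `SL₅(K) → E₈(K)` of the frame `A₄ A₄` are injective (helper788, S5925, box A2)

* `p1_act`, `p2_act` : the action of a scalar on the root group of `α₅`;
* `p1_injective`, `p2_injective` (`ph1_injective`, `ph2_injective`) : every field;
* `eq_imp` : `p1 A = p2 B` implies `A = c`, `B = c²` with `c⁵ = 1`.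
-/

set_option autoImplicit false
set_option linter.unusedSectionVars false

namespace Cfsg.Agent.H788.E83

open Cfsg.Lie Cfsg.Agent.TitsThree.KExcRT Cfsg.Agent.AGraded
open Cfsg.Agent.ChevalleyStructure Cfsg.Agent.ChevalleyStructure.Elts Cfsg.Agent.ChevalleyStructure.RootVec
  Cfsg.Agent.KFacts.RgdChevCoord Cfsg.Agent.GpExc.Field Cfsg.Agent.Nodes.RGDChev
  Cfsg.Agent.ChevalleyStructure.CoxeterGeomTypes
open Cfsg.Agent.H482.Ore.Fix (hab' hab_word dgl)
open Cfsg.Agent.H934.E83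
open Cfsg.Agent.H928.Ore.Frame
open CoxeterSystem Cfsg.Agent.ChevalleyStructure.CoxeterGeom Cfsg.Agent.Tits.Roots Cfsg.Agent.Tits.Core
  Cfsg.Agent.Nodes.Reps Cfsg.Agent.Nodes.BNOf Cfsg.Agent.Nodes.RGDLib Cfsg.Agent.Nodes.Bruhat
  Cfsg.Agent.Nodes.KindChev Cfsg.Agent.Nodes.ChevCls Cfsg.Agent.ChevalleyStructure.NPerm
  Cfsg.Agent.OddHalf.NI.ModelChev
open Matrix hiding vec_neg zpow_neg_one

universe u

/-! ### The elements `diag(.., u, u⁻¹, ..)` -/

section hab

variable {K : Type u} [Field K] {m : ℕ}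

theorem hab_comm {Y : Type*} [Group Y] {φ : SpecialLinearGroup (Fin m) K →* Y} {a b : Fin m} (hab : a ≠ b) {y : Y}
    (h1 : ∀ c, Commute (φ (SpecialLinearGroup.transvection hab c)) y)
    (h2 : ∀ c, Commute (φ (SpecialLinearGroup.transvection hab.symm c)) y) (u : Kˣ) :
    Commute (φ (hab' a b hab u)) y := by
  rw [hab_word]
  simp only [map_mul]
  exact (h1 _).mul_left ((h2 _).mul_left ((h1 _).mul_left ((h1 _).mul_left ((h2 _).mul_left (h1 _)))))

theorem phi_hab1 {D : ChevalleyDatum} {l : ℕ} {M : CoxeterMatrix (Fin l)} (hp : IsType D l M)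
    {φ : SpecialLinearGroup (Fin m) K →* ↥(D.group K)} {a b : Fin m} (hab : a ≠ b) {j : Fin l} {s1 s2 : K}
    (h12 : s1 * s2 = 1)
    (h1 : ∀ c, φ (SpecialLinearGroup.transvection hab c) = xc hp (vec D l (D.simple j)) (s1 * c))
    (h2 : ∀ c, φ (SpecialLinearGroup.transvection hab.symm c) = xc hp (vec D l (D.neg (D.simple j))) (s2 * c))
    (u : Kˣ) : φ (hab' a b hab u) = hc hp j (u : K) := by
  have e1 := vec_simple hp j
  have e2 : vec D l (D.neg (D.simple j)) = -sr j := by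
    rw [Cfsg.Agent.Nodes.RGDChev.vec_neg hp (NPerm.simple_lt hp.inList (lt_rank hp j)), e1]
  rw [hab_word]
  simp only [map_mul]
  rw [h1, h1, h2, h2, e1, e2]
  have hs0 : s1 ≠ 0 := left_ne_zero_of_mul_eq_one h12
  have hs2' : s2 = s1⁻¹ := eq_inv_of_mul_eq_one_right h12
  rw [hs2', ← sl_uu, ← sl_uu, ← sl_vv, ← sl_vv, ← map_mul, ← map_mul, ← map_mul, ← map_mul, ← map_mul,
    ← sl_dd hp j (u : K) u.ne_zero]
  congr 1
  have hu : (u : K) ≠ 0 := u.ne_zero
  apply Subtype.ext
  show !![1, s1 * (u : K); 0, 1] * (!![1, 0; s1⁻¹ * -((u : K)⁻¹), 1] * (!![1, s1 * (u : K); 0, 1] *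
    (!![1, s1 * -1; 0, 1] * (!![1, 0; s1⁻¹ * 1, 1] * !![1, s1 * -1; 0, 1])))) = !![(u : K), 0; 0, (u : K)⁻¹]
  simp only [Matrix.mul_fin_two]
  congr 1
  ext i k
  fin_cases i <;> fin_cases k <;> simp <;> field_simp <;> ring

/-- scalars are products of `diag(.., u, u⁻¹, ..)` -/
theorem scal_eq {c : Kˣ} (hc : c ^ 5 = 1) {z : SpecialLinearGroup (Fin 5) K}
    (hz : z.1 = Matrix.diagonal fun _ => (c : K)) :
    z = hab' 0 1 (by decide) c * (hab' 1 2 (by decide) (c ^ 2) * (hab' 2 3 (by decide) (c ^ 3) *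
      hab' 3 4 (by decide) (c ^ 4))) := by
  apply Subtype.ext
  rw [hz]
  show _ = Matrix.diagonal _ * (Matrix.diagonal _ * (Matrix.diagonal _ * Matrix.diagonal _))
  rw [Matrix.diagonal_mul_diagonal, Matrix.diagonal_mul_diagonal, Matrix.diagonal_mul_diagonal]
  congr 1
  have h0 : (c : K) ≠ 0 := c.ne_zero
  have h5 : (c : K) ^ 5 = 1 := by rw [← Units.val_pow_eq_pow_val, hc, Units.val_one]
  funext k
  fin_cases k
  · simp
  · simp
    field_simp
  · simp
    field_simp
  · simp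
    field_simp
  · simp
    field_simp
    linear_combination h5

end hab

/-! ### The root group of `α₅` -/

section five

variable (K : Type u) [Field K]

/-- `x_{α₅}(s)` -/
noncomputable def x5 (s : K) : ↥(chevE8.group K) := xc hp8 (vec chevE8 8 126) s

variable {K}

/-- `g` acts on the root group of `α₅` by the scalar `a` -/
def Wt (g : ↥(chevE8.group K)) (a : K) : Prop := ∀ s : K, g * x5 K s = x5 K (a * s) * g

theorem Wt.mul {g h : ↥(chevE8.group K)} {a b : K} (hg : Wt g a) (hh : Wt h b) : Wt (g * h) (a * b) := by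
  intro s
  rw [mul_assoc, hh s, ← mul_assoc, hg (b * s), mul_assoc, mul_assoc]

theorem Wt.of_comm {g : ↥(chevE8.group K)} (h : ∀ s, Commute g (x5 K s)) : Wt g 1 := by
  intro s
  rw [one_mul]
  exact (h s).eq

theorem wt_hc (j : Fin 8) (u : Kˣ) : Wt (hc hp8 j (u : K)) ((u : K) ^ chevE8.cartan j 126) := by
  intro s
  have h126 : 126 < chevE8.nroots := by decide +kernel
  have h1 := (act hp8 h126 (hc_mem hp8 j u.ne_zero)).2 s
  rw [ch_hc hp8 j u.ne_zero h126] at h1
  rw [mul_inv_eq_iff_eq_mul] at h1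
  exact h1

theorem x5_inj : Function.Injective (x5 K) := xc_inj hp8 (by decide +kernel)

theorem comm_x5 {r : ℕ} (hr : r < chevE8.nroots) (h1 : 126 ≠ r) (h2 : 126 ≠ chevE8.neg r)
    (h3 : chevE8.commTerms r 126 = []) (c s : K) : Commute (xc hp8 (vec chevE8 8 r) c) (x5 K s) := by
  have h126 : 126 < chevE8.nroots := by decide +kernel
  apply Subtype.ext
  show (xc hp8 (vec chevE8 8 r) c : GL chevE8.Idx K) * (x5 K s : GL chevE8.Idx K) =
    (x5 K s : GL chevE8.Idx K) * (xc hp8 (vec chevE8 8 r) c : GL chevE8.Idx K)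
  rw [coe_xc hp8 hr, x5, coe_xc hp8 h126]
  exact Cfsg.Agent.TitsThree.KExcBase.comm_nil hp8.inList hr h126 h1 h2 h3 _ _

theorem tabx : ∀ r ∈ [162, 77, 135, 104, 141, 98, 0, 239, 120, 119, 121, 118], r < chevE8.nroots ∧ 126 ≠ r ∧
    126 ≠ chevE8.neg r ∧ chevE8.commTerms r 126 = [] := by decide +kernel

theorem comm_tab {r : ℕ} (hr : r ∈ [162, 77, 135, 104, 141, 98, 0, 239, 120, 119, 121, 118]) (c s : K) :
    Commute (xc hp8 (vec chevE8 8 r) c) (x5 K s) := by
  obtain ⟨h1, h2, h3, h4⟩ := tabx r hr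
  exact comm_x5 h1 h2 h3 h4 c s

theorem one_zpow' (c : Kˣ) (k : ℕ) (j : Fin 8) (h : chevE8.cartan j 126 = -1) :
    (((c ^ k : Kˣ) : K)) ^ chevE8.cartan j 126 = ((c : K) ^ k)⁻¹ := by
  rw [h, zpow_neg_one, Units.val_pow_eq_pow_val]

/-- the action of a scalar of the first factor on the root group of `α₅` -/
theorem p1_act {c : Kˣ} (hc : c ^ 5 = 1) {z : SpecialLinearGroup (Fin 5) K}
    (hz : z.1 = Matrix.diagonal fun _ => (c : K)) : Wt (p1 K z) ((c : K) ^ 2) := by
  have e : ((c : K) ^ 2) = 1 * (1 * (((c ^ 3 : Kˣ) : K) ^ chevE8.cartan (3 : Fin 8) 126 * 1)) := by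
    rw [one_zpow' c 3 3 (by decide +kernel)]
    have h0 : (c : K) ≠ 0 := c.ne_zero
    have h5 : (c : K) ^ 5 = 1 := by rw [← Units.val_pow_eq_pow_val, hc, Units.val_one]
    field_simp
    linear_combination h5
  rw [scal_eq hc hz, map_mul, map_mul, map_mul, e]
  refine Wt.mul (Wt.of_comm fun s => ?_) (Wt.mul (Wt.of_comm fun s => ?_) (Wt.mul ?_ (Wt.of_comm fun s => ?_)))
  · refine hab_comm _ (fun c => ?_) (fun c => ?_) _ <;> rw [p1_tv] <;> exact comm_tab (by decide) _ _
  · refine hab_comm _ (fun c => ?_) (fun c => ?_) _ <;> rw [p1_tv] <;> exact comm_tab (by decide) _ _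
  · rw [phi_hab1 hp8 (j := 3) (s1 := (1 : K)) (s2 := (1 : K)) (by decide : (2 : Fin 5) ≠ 3) (mul_one 1) (fun c => ?_)
      (fun c => ?_) (c ^ 3)]
    · exact wt_hc 3 _
    · rw [p1_tv, show chevE8.simple ((3 : Fin 8) : ℕ) = r1 2 3 by decide +kernel, show s1 2 3 = 1 by decide, Int.cast_one]
    · rw [p1_tv, show chevE8.neg (chevE8.simple ((3 : Fin 8) : ℕ)) = r1 3 2 by decide +kernel,
        show s1 3 2 = 1 by decide, Int.cast_one]
  · refine hab_comm _ (fun c => ?_) (fun c => ?_) _ <;> rw [p1_tv] <;> exact comm_tab (by decide) _ _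

/-- the action of a scalar of the second factor on the root group of `α₅` -/
theorem p2_act {c : Kˣ} (hc : c ^ 5 = 1) {z : SpecialLinearGroup (Fin 5) K}
    (hz : z.1 = Matrix.diagonal fun _ => (c : K)) : Wt (p2 K z) (c : K) := by
  have e : (c : K) = 1 * (1 * (1 * ((c ^ 4 : Kˣ) : K) ^ chevE8.cartan (5 : Fin 8) 126)) := by
    rw [one_zpow' c 4 5 (by decide +kernel)]
    have h0 : (c : K) ≠ 0 := c.ne_zero
    have h5 : (c : K) ^ 5 = 1 := by rw [← Units.val_pow_eq_pow_val, hc, Units.val_one]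
    field_simp
    linear_combination h5
  rw [scal_eq hc hz, map_mul, map_mul, map_mul]
  have e' : Wt (p2 K (hab' 0 1 (by decide) c) * (p2 K (hab' 1 2 (by decide) (c ^ 2)) *
      (p2 K (hab' 2 3 (by decide) (c ^ 3)) * p2 K (hab' 3 4 (by decide) (c ^ 4)))))
      (1 * (1 * (1 * ((c ^ 4 : Kˣ) : K) ^ chevE8.cartan (5 : Fin 8) 126))) := by
    refine Wt.mul (Wt.of_comm fun s => ?_) (Wt.mul (Wt.of_comm fun s => ?_) (Wt.mul (Wt.of_comm fun s => ?_) ?_))
    · refine hab_comm _ (fun c => ?_) (fun c => ?_) _ <;> rw [p2_tv] <;> exact comm_tab (by decide) _ _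
    · refine hab_comm _ (fun c => ?_) (fun c => ?_) _ <;> rw [p2_tv] <;> exact comm_tab (by decide) _ _
    · refine hab_comm _ (fun c => ?_) (fun c => ?_) _ <;> rw [p2_tv] <;> exact comm_tab (by decide) _ _
    · rw [phi_hab1 hp8 (j := 5) (s1 := (1 : K)) (s2 := (1 : K)) (by decide : (3 : Fin 5) ≠ 4) (mul_one 1) (fun c => ?_)
        (fun c => ?_) (c ^ 4)]
      · exact wt_hc 5 _
      · rw [p2_tv, one_mul, show chevE8.simple ((5 : Fin 8) : ℕ) = r2 3 4 by decide +kernel]
      · rw [p2_tv, one_mul, show chevE8.neg (chevE8.simple ((5 : Fin 8) : ℕ)) = r2 4 3 by decide +kernel]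
  rwa [← e] at e'

/-! ### The kernel -/

/-- central elements -/
theorem exists_scal {z : SpecialLinearGroup (Fin 5) K} (hz : z ∈ Subgroup.center (SpecialLinearGroup (Fin 5) K)) :
    ∃ c : Kˣ, c ^ 5 = 1 ∧ z.1 = Matrix.diagonal fun _ => (c : K) := by
  obtain ⟨r, hr, hz⟩ := Matrix.SpecialLinearGroup.mem_center_iff.1 hz
  rw [Fintype.card_fin] at hr
  have hr0 : r ≠ 0 := by
    rintro rfl
    rw [zero_pow (by norm_num)] at hr
    exact zero_ne_one hr
  refine ⟨Units.mk0 r hr0, ?_, ?_⟩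
  · apply Units.ext
    rw [Units.val_pow_eq_pow_val, Units.val_mk0, hr, Units.val_one]
  · rw [← hz]
    rfl

theorem inj_of {φ : SpecialLinearGroup (Fin 5) K →* ↥(chevE8.group K)}
    (h1 : φ (SpecialLinearGroup.transvection (by decide : (0 : Fin 5) ≠ 1) 1) ≠ 1)
    (h2 : ∀ (c : Kˣ) (z : SpecialLinearGroup (Fin 5) K), c ^ 5 = 1 → z.1 = (Matrix.diagonal fun _ => (c : K)) → φ z = 1 →
      c = 1) : Function.Injective φ := by
  rw [← MonoidHom.ker_eq_bot_iff]
  rcases Cfsg.Agent.H990.TC.le_center_or_top (Cfsg.Agent.S0248.result (F := K) 5 (by norm_num))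
    (Cfsg.Agent.S0249.result (F := K) 5 (by norm_num)) φ.ker with h | h
  · rw [eq_bot_iff]
    intro z hz
    obtain ⟨c, hc, hzc⟩ := exists_scal (h hz)
    have h3 := h2 c z hc hzc hz
    rw [Subgroup.mem_bot]
    apply Subtype.ext
    rw [hzc, h3]
    show (Matrix.diagonal fun _ => ((1 : Kˣ) : K)) = 1
    rw [Units.val_one, Matrix.diagonal_one]
  · exfalso
    apply h1
    have h3 : SpecialLinearGroup.transvection (by decide : (0 : Fin 5) ≠ 1) (1 : K) ∈ φ.ker := by
      rw [h]; exact Subgroup.mem_top _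
    exact h3

theorem wt_one {a : K} (h : Wt (1 : ↥(chevE8.group K)) a) : a = 1 := by
  have h1 := h 1
  rw [one_mul, mul_one, mul_one] at h1
  exact (x5_inj h1).symm

/-- the second homomorphism is injective -/
theorem p2_injective : Function.Injective (p2 K) := by
  refine inj_of ?_ ?_
  · rw [p2_tv]
    intro h
    have h0 : xc hp8 (vec chevE8 8 (r2 0 1)) (0 : K) = 1 := by
      have := map_one (p2 K)
      rw [show (1 : SpecialLinearGroup (Fin 5) K) = SpecialLinearGroup.transvection (by decide : (0 : Fin 5) ≠ 1) 0 by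
        apply Subtype.ext
        show _ = Matrix.transvection _ _ 0
        rw [Matrix.transvection_zero]; rfl, p2_tv] at this
      exact this
    exact one_ne_zero (xc_inj hp8 (by decide +kernel : r2 0 1 < chevE8.nroots) (h.trans h0.symm))
  · intro c z hc hz h
    have h1 := p2_act hc hz
    rw [h] at h1
    exact Units.ext (wt_one h1)

/-- the first homomorphism is injective -/
theorem p1_injective : Function.Injective (p1 K) := by
  refine inj_of ?_ ?_
  · rw [p1_tv]
    intro h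
    have h0 : xc hp8 (vec chevE8 8 (r1 0 1)) ((s1 0 1 : K) * 0) = 1 := by
      have := map_one (p1 K)
      rw [show (1 : SpecialLinearGroup (Fin 5) K) = SpecialLinearGroup.transvection (by decide : (0 : Fin 5) ≠ 1) 0 by
        apply Subtype.ext
        show _ = Matrix.transvection _ _ 0
        rw [Matrix.transvection_zero]; rfl, p1_tv] at this
      exact this
    have h2 := xc_inj hp8 (by decide +kernel : r1 0 1 < chevE8.nroots) (h.trans h0.symm)
    rw [show s1 0 1 = 1 by decide, Int.cast_one, one_mul, one_mul] at h2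
    exact one_ne_zero h2
  · intro c z hc hz h
    have h1 := p1_act hc hz
    rw [h] at h1
    have h2 : (c : K) ^ 2 = 1 := wt_one h1
    have h5 : (c : K) ^ 5 = 1 := by rw [← Units.val_pow_eq_pow_val, hc, Units.val_one]
    apply Units.ext
    calc (c : K) = (c : K) ^ 5 := by
          rw [show (c : K) ^ 5 = ((c : K) ^ 2) ^ 2 * c by ring, h2, one_pow, one_mul]
      _ = 1 := h5

/-- **The kernel of `p1 × p2`.** -/
theorem eq_imp {A B : SpecialLinearGroup (Fin 5) K} (h : p1 K A = p2 K B) : ∃ c : Kˣ, c ^ 5 = 1 ∧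
    A.1 = (Matrix.diagonal fun _ => (c : K)) ∧ B.1 = Matrix.diagonal fun _ => (c : K) ^ 2 := by
  have hA : A ∈ Subgroup.center (SpecialLinearGroup (Fin 5) K) := by
    rw [Subgroup.mem_center_iff]
    intro g
    apply p1_injective
    rw [map_mul, map_mul, h]
    exact comm_eq g B
  have hB : B ∈ Subgroup.center (SpecialLinearGroup (Fin 5) K) := by
    rw [Subgroup.mem_center_iff]
    intro g
    apply p2_injective
    rw [map_mul, map_mul, ← h]
    exact (comm_eq A g).symm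
  obtain ⟨c, hc, hc'⟩ := exists_scal hA
  obtain ⟨d, hd, hd'⟩ := exists_scal hB
  refine ⟨c, hc, hc', ?_⟩
  rw [hd']
  have h1 := p1_act hc hc'
  have h2 := p2_act hd hd'
  rw [h] at h1
  have h3 := (h1 1).symm.trans (h2 1)
  have h4 := x5_inj (mul_right_cancel h3)
  rw [mul_one, mul_one] at h4
  rw [h4]

/-! ### The homomorphisms of helper238 -/

theorem ph1_eq : Cfsg.Agent.H238.E8.ph1 K = p1 K := by
  apply hom_ext
  intro a b hab c
  rw [Cfsg.Agent.H238.E8.ph1_tv]
  apply Subtype.ext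
  rw [coe_p1_tv]
  rfl

theorem ph2_eq : Cfsg.Agent.H238.E8.ph2 K = p2 K := by
  apply hom_ext
  intro a b hab c
  rw [Cfsg.Agent.H238.E8.ph2_tv]
  apply Subtype.ext
  rw [coe_p2_tv]
  have : ((Cfsg.Agent.H238.E8.sg2 a b : ℤ) : K) * c = c := by
    rw [show Cfsg.Agent.H238.E8.sg2 a b = 1 by revert a b; decide, Int.cast_one, one_mul]
  rw [this]
  rfl

theorem ph1_injective : Function.Injective (Cfsg.Agent.H238.E8.ph1 K) := by
  rw [ph1_eq]; exact p1_injective

theorem ph2_injective : Function.Injective (Cfsg.Agent.H238.E8.ph2 K) := by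
  rw [ph2_eq]; exact p2_injective

/-- the kernel of `ph1 × ph2` -/
theorem ph_eq_imp {A B : SpecialLinearGroup (Fin 5) K} (h : Cfsg.Agent.H238.E8.ph1 K A = Cfsg.Agent.H238.E8.ph2 K B) :
    ∃ c : Kˣ, c ^ 5 = 1 ∧ A.1 = (Matrix.diagonal fun _ => (c : K)) ∧ B.1 = Matrix.diagonal fun _ => (c : K) ^ 2 := by
  rw [ph1_eq, ph2_eq] at h
  exact eq_imp h

end five

end Cfsg.Agent.H788.E83
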